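-- Involutions in a simple group of order 5616.
--
-- * `card_centralizer_x`: an element of order 13 is self-centralising
-- * `card_centralizer_involution`: centralisers of involutions have order dividing 48
import Cfsg.Agent.Lib.SmallOrders.BlockDegrees.Criterion
import Cfsg.Agent.Lib.SmallOrders.BlockDegrees.ValueFormula
import Cfsg.Agent.Lib.SmallOrders.BlockDegrees.Orders
import Cfsg.Agent.Lib.Char.PRegular
import Cfsg.Agent.Lib.Char.Virtual

set_option autoImplicit false

open scoped ComplexConjugate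

namespace Cfsg.Agent.SmallOrders.Order5616

open Subgroup BlockDegrees Cfsg

variable {G : Type*} [Group G] [Finite G]

/-- A character vanishing at the `3`-singular elements has value divisible by the order of a
`3`-group in the centraliser. -/
theorem dvd_value [Fact (Nat.Prime 3)] {χ : G → ℂ} (hχ : IsCharacter G χ) {t : G}
    (ht : orderOf t = 2) {d : ℕ} (hd : χ 1 = d) {u : ℤ} (hu : χ t = u)
    (hvan : ∀ g : G, 3 ∣ orderOf g → χ g = 0) {S : Subgroup G} {a : ℕ}
    (hS : Nat.card S = 3 ^ a) (hSt : S ≤ centralizer ({t} : Set G)) (hda : 3 ^ a ∣ d) :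
    (3 ^ a : ℤ) ∣ u := by
  classical
  have hcomm : ∀ (z : zpowers t) (s : S), Commute ((zpowers t).subtype z) (S.subtype s) := fun z s => by
    obtain ⟨i, hi⟩ := mem_zpowers_iff.mp z.2
    show Commute (z : G) (s : G)
    rw [← hi]
    exact (show Commute t (s : G) from (mem_centralizer_singleton_iff.mp (hSt s.2)).symm).zpow_left i
  set f := MonoidHom.noncommCoprod (zpowers t).subtype S.subtype hcomm with hf
  have := Fintype.ofFinite (zpowers t)
  have := Fintype.ofFinite S
  obtain ⟨k, hk⟩ := Char.IsGeneralizedCharacter.classInner_int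
    (Char.isGeneralizedCharacter_of_isCharacter (Char.IsCharacter.comp_hom hχ f))
    (Char.isGeneralizedCharacter_of_isCharacter (Char.isCharacter_one (G := zpowers t × S)))
  have hzero : ∀ (z : zpowers t) (s : S), s ≠ 1 → χ (f (z, s)) = 0 := by
    intro z s hs
    apply hvan
    show 3 ∣ orderOf ((z : G) * (s : G))
    obtain ⟨j, hj⟩ := IsPGroup.iff_orderOf.1 (IsPGroup.of_card hS) s
    have hj0 : j ≠ 0 := fun e => hs (orderOf_eq_one_iff.mp (by rw [hj, e, pow_zero]))
    have hz2 : orderOf (z : G) ∣ 2 := by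
      have := Subgroup.orderOf_dvd_natCard (zpowers t) z.2
      rwa [Nat.card_zpowers, ht] at this
    have hco : (orderOf (z : G)).Coprime (orderOf (s : G)) := by
      rw [orderOf_coe s, hj]
      exact Nat.Coprime.coprime_dvd_left hz2 (Nat.Coprime.pow_right j (by norm_num))
    rw [(show Commute (z : G) (s : G) from hcomm z s).orderOf_mul_eq_mul_orderOf_of_coprime hco]
    exact dvd_mul_of_dvd_right (by rw [orderOf_coe, hj]; exact dvd_pow_self 3 hj0) _
  set tz : zpowers t := ⟨t, mem_zpowers t⟩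
  have hne : (1 : zpowers t) ≠ tz := fun e => by
    have := congrArg Subtype.val e
    simp only [coe_one, tz] at this
    rw [← this, orderOf_one] at ht
    omega
  have huniv : (Finset.univ : Finset (zpowers t)) = {1, tz} := by
    refine (Finset.eq_univ_of_card _ ?_).symm
    rw [Finset.card_pair hne, ← Nat.card_eq_fintype_card, Nat.card_zpowers, ht]
  have hsum : ∑ q : zpowers t × S, χ (f q) = (d : ℂ) + u := by
    rw [Fintype.sum_prod_type]
    have : ∀ z : zpowers t, ∑ s : S, χ (f (z, s)) = χ (z : G) := fun z => by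
      rw [Fintype.sum_eq_single (1 : S) fun s hs => hzero z s hs]
      simp [hf]
    rw [Finset.sum_congr rfl fun z _ => this z, huniv, Finset.sum_pair hne, ← hd, ← hu]
    rfl
  have hcard : Nat.card (zpowers t × S) = 2 * 3 ^ a := by
    rw [Nat.card_prod, Nat.card_zpowers, ht, hS]
  have hk' : ((d : ℤ) + u : ℤ) = (2 * 3 ^ a : ℤ) * k := by
    apply Int.cast_injective (α := ℂ)
    push_cast
    rw [← hsum, ← hk, classInner, hcard]
    have : ((2 * 3 ^ a : ℕ) : ℂ) ≠ 0 := Nat.cast_ne_zero.mpr (by positivity)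
    push_cast at this ⊢
    rw [← mul_assoc, mul_inv_cancel₀ this, one_mul]
    simp
  have hd' : (3 ^ a : ℤ) ∣ d := by exact_mod_cast hda
  have hsum' : (3 ^ a : ℤ) ∣ (d : ℤ) + u := ⟨2 * k, by rw [hk']; ring⟩
  simpa using dvd_sub hsum' hd'

variable [IsSimpleGroup G]

theorem exists_thirteen (hG : ¬ IsMulCommutative G) (h : Nat.card G = 5616) [Fact (Nat.Prime 13)] :
    ∃ x : G, orderOf x = 13 ∧ Nat.card (centralizer ({x} : Set G)) = 13 ∧
      Nat.card (normalizer (zpowers x : Set G)) = 39 := by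
  obtain ⟨x, j, hmem, hx, hN, hC⟩ := mem_of_blockBool hG h 13 75 [(144, 3)] (by decide +kernel)
  simp only [List.mem_singleton, Prod.mk.injEq] at hmem
  obtain ⟨hd, rfl⟩ := hmem
  rw [hd] at hN
  exact ⟨x, hx, by omega, by omega⟩

theorem card_centralizer_x (hG : ¬ IsMulCommutative G) (h : Nat.card G = 5616) {g : G}
    (hg : orderOf g = 13) : Nat.card (centralizer ({g} : Set G)) = 13 := by
  have : Fact (Nat.Prime 13) := ⟨by norm_num⟩
  obtain ⟨x, hx, hC, -⟩ := exists_thirteen hG h
  have hP : ∀ P : Sylow 13 G, Nat.card (P : Subgroup G) = 13 := fun P => by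
    rw [card_sylow_subgroup (p := 13) (e := 1) (m := 432) (by rw [h]; norm_num) (by norm_num) P,
      pow_one]
  obtain ⟨P, hPg⟩ := exists_sylow_eq_zpowers hP hg
  obtain ⟨Q, hQx⟩ := exists_sylow_eq_zpowers hP hx
  obtain ⟨a, ha⟩ := MulAction.exists_smul_eq G P Q
  have hz : zpowers x = zpowers (a * g * a⁻¹) := by
    rw [← hQx, ← ha, show ((a • P : Sylow 13 G) : Subgroup G) =
      (P : Subgroup G).map (MulAut.conj a).toMonoidHom from rfl, hPg, MonoidHom.map_zpowers]
    rfl
  rw [← hC, ← centralizer_zpowers, ← centralizer_zpowers x, hz, centralizer_zpowers,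
    centralizer_zpowers]
  have hmap : centralizer ({a * g * a⁻¹} : Set G) =
      (centralizer ({g} : Set G)).map (MulAut.conj a).toMonoidHom := by
    ext b
    simp only [mem_centralizer_singleton_iff, mem_map_equiv, MulAut.conj_symm_apply]
    constructor <;> intro hb
    · calc a⁻¹ * b * a * g = a⁻¹ * (b * (a * g * a⁻¹)) * a := by group
        _ = a⁻¹ * ((a * g * a⁻¹) * b) * a := by rw [hb]
        _ = g * (a⁻¹ * b * a) := by group
    · calc b * (a * g * a⁻¹) = a * (a⁻¹ * b * a * g) * a⁻¹ := by group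
        _ = a * (g * (a⁻¹ * b * a)) * a⁻¹ := by rw [hb]
        _ = a * g * a⁻¹ * b := by group
  rw [hmap, card_map_of_injective (MulAut.conj a).injective]

/-- degrees of the principal block -/
theorem degSols_5616 :
    degSols 5616 13 3 ((13 - 1) / 3) 2 (degCand 5616 13 2 75) (3 - 1) 1 1 = [[-12, 27]] := by
  decide +kernel

theorem values_cases : ∀ v₁ ∈ vCand (-12), ∀ v₂ ∈ vCand 27,
    (1 + (v₁ + v₂)).natAbs < 16 → (16 - (1 + (v₁ + v₂))) % 4 = 0 →
    (5616 : ℤ) + (v₁ ^ 2 * (5616 / (-12)) + v₂ ^ 2 * (5616 / 27)) - (1 + (v₁ + v₂)) ^ 2 * (5616 / 16) = 0 →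
      (v₁ = -4 ∧ v₂ = 3) ∨ (v₁ = -8 ∧ v₂ = 15) ∨ (v₁ = 0 ∧ v₂ = -9) := by
  decide +kernel

theorem mem_vCand {x v : ℤ} (h1 : v.natAbs < x.natAbs) (h2 : (x - v) % 4 = 0) : v ∈ vCand x := by
  refine List.mem_filter.mpr ⟨List.mem_map.mpr ⟨(v + (x.natAbs : ℤ)).toNat, List.mem_range.mpr ?_, ?_⟩, ?_⟩
  · omega
  · omega
  · simp only [Bool.and_eq_true, decide_eq_true_eq]; exact ⟨h1, h2⟩

theorem card_centralizer_involution (hG : ¬ IsMulCommutative G) (h : Nat.card G = 5616) {t : G}
    (ht : orderOf t = 2) : Nat.card (centralizer ({t} : Set G)) ∣ 48 := by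
  have : Fact (Nat.Prime 13) := ⟨by norm_num⟩
  have : Fact (Nat.Prime 3) := ⟨Nat.prime_three⟩
  obtain ⟨x, hx, hCx, hNx⟩ := exists_thirteen hG h
  have hno : ¬ ∃ a, IsConj t a ∧ a * x * a⁻¹ = x⁻¹ := by
    rintro ⟨a, hta, hax⟩
    have ha : orderOf a = 2 := by
      obtain ⟨c, hc⟩ := isConj_iff.mp hta
      rw [← hc, ← ht]; exact (MulAut.conj c).orderOf_eq t
    have haN : a ∈ normalizer (zpowers x : Set G) := by
      have haa : a * a = 1 := by rw [← pow_two, ← ha, pow_orderOf_eq_one]
      have hfwd : ∀ y ∈ zpowers x, a * y * a⁻¹ ∈ zpowers x := fun y hy => by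
        obtain ⟨i, rfl⟩ := mem_zpowers_iff.mp hy
        rw [← conj_zpow, hax]
        exact zpow_mem (inv_mem (mem_zpowers x)) i
      refine mem_normalizer_iff.mpr fun y => ⟨hfwd y, fun hy => ?_⟩
      have := hfwd _ hy
      rwa [show a * (a * y * a⁻¹) * a⁻¹ = (a * a) * y * (a * a)⁻¹ by group, haa, one_mul, inv_one,
        mul_one] at this
    have := orderOf_dvd_natCard _ haN
    rw [ha, hNx] at this
    norm_num at this
  obtain ⟨L, A, E, σ, ε, χe, u, -, -, hD, -, hu, -, ⟨hdeg, hv, hw1, hw2, hvsq, -⟩, hzero⟩ :=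
    exists_valData (c := 1) (e := 3) (lo := 2) hG (by norm_num) hx (by rw [h]; norm_num)
      (by rw [hCx]) (by rw [hNx]) (Or.inl le_rfl) ht
  have hform := hzero hno
  rw [h] at hdeg hform
  set P := A.val.map fun χ => (σ χ * (charDegree (χ : G → ℂ) : ℤ), σ χ * u χ) with hP
  set y := ε * (charDegree (χe : G → ℂ) : ℤ)
  obtain ⟨hcard, hX, hy1, hy2, hy3, hsum, hsq⟩ := hdeg
  have hmem : ∀ z ∈ P.map Prod.fst, z ∈ degCand 5616 13 2 75 := by
    intro z hz
    obtain ⟨h1, h2, h3⟩ := hX z hz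
    have hlt : z.natAbs < 75 := by
      have : z.natAbs ^ 2 ≤ ((P.map Prod.fst).map fun w => w.natAbs ^ 2).sum :=
        Multiset.le_sum_of_mem (Multiset.mem_map_of_mem (fun w : ℤ => w.natAbs ^ 2) hz)
      exact Nat.mul_self_lt_mul_self_iff.mp (by rw [← pow_two]; omega)
    refine List.mem_flatMap.mpr ⟨z.natAbs, List.mem_range.mpr hlt, ?_⟩
    rw [if_pos ⟨h1, h2⟩, List.mem_append]
    rcases Int.natAbs_eq z with e' | e'
    · left; rw [← e', if_pos h3]; exact List.mem_singleton.mpr rfl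
    · right
      rw [show -((z.natAbs : ℕ) : ℤ) = z from e'.symm, if_pos h3]
      exact List.mem_singleton.mpr rfl
  obtain ⟨l, hl, hlX⟩ := degSols_complete (t := (13 - 1) / 3) _ (3 - 1) 1 1 (P.map Prod.fst) (by omega)
    hmem (by
      simp only [finalBool, Bool.and_eq_true, decide_eq_true_eq]
      rw [hsum]
      exact ⟨⟨⟨hy1, hy2⟩, hy3⟩, hsq⟩)
  rw [degSols_5616, List.mem_singleton] at hl
  subst hl
  obtain ⟨L', hL, hLP⟩ := exists_aligned [-12, 27] P hlX.symm
  match L', hL with
  | [(a₁, v₁), (a₂, v₂)], hL =>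
    simp only [List.map_cons, List.map_nil, List.cons.injEq, and_true] at hL
    obtain ⟨rfl, rfl⟩ := hL
    have hy : y = 16 := by rw [← hsum, ← hlX]; rfl
    rw [← hLP] at hform hvsq hv hw1 hw2
    simp only [Multiset.map_coe, List.map_cons, List.map_nil, Multiset.sum_coe, List.sum_cons,
      List.sum_nil, add_zero, Nat.cast_ofNat, Nat.cast_one, one_mul, hy] at hform hvsq hw1 hw2
    have h1 := hv (-12, v₁) (by simp)
    have h2 := hv (27, v₂) (by simp)
    have hcases := values_cases v₁ (mem_vCand h1.1 h1.2) v₂ (mem_vCand h2.1 h2.2) (by simpa using hw1) hw2 hform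
    -- the character of degree 27
    obtain ⟨χ, hχA, hχ⟩ := Multiset.mem_map.mp (show ((27 : ℤ), v₂) ∈ P by rw [← hLP]; simp)
    simp only [Prod.mk.injEq] at hχ
    have hσ : σ χ = 1 ∧ charDegree (χ : G → ℂ) = 27 := by
      have := hχ.1
      rcases hD.sign χ hχA with e | e <;> rw [e] at this <;> omega
    have hu' : u χ = v₂ := by rw [← hχ.2, hσ.1, one_mul]
    have hd : (χ : G → ℂ) 1 = ((27 : ℕ) : ℂ) := by
      rw [← hσ.2]; exact (Blocks.charDegree_cast χ).symm
    have hvan : ∀ g : G, 3 ∣ orderOf g → (χ : G → ℂ) g = 0 := fun g hg =>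
      Char.vanishes_of_defect_zero Nat.prime_three χ.2 hd (by
        rw [h, show (5616 : ℕ) = 3 ^ 3 * 208 by norm_num, Nat.factorization_mul (by norm_num) (by norm_num),
          Nat.Prime.factorization_pow Nat.prime_three, show (27 : ℕ) = 3 ^ 3 by norm_num,
          Nat.Prime.factorization_pow Nat.prime_three]
        simp [Nat.factorization_eq_zero_of_not_dvd (show ¬ 3 ∣ 208 by norm_num)]) g hg
    set C := Nat.card (centralizer ({t} : Set G)) with hCdef
    have hC13 : ¬ 13 ∣ C := fun h13 => by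
      obtain ⟨⟨g, hg⟩, hgo⟩ := exists_prime_orderOf_dvd_card' 13 h13
      rw [orderOf_mk] at hgo
      have h2C := orderOf_dvd_natCard _ (show t ∈ centralizer ({g} : Set G) from
        mem_centralizer_singleton_iff.mpr (mem_centralizer_singleton_iff.mp hg).symm)
      rw [ht, card_centralizer_x hG h hgo] at h2C
      norm_num at h2C
    have hC432 : C ∣ 432 := (Nat.Coprime.dvd_of_dvd_mul_left
      ((by norm_num : Nat.Prime 13).coprime_iff_not_dvd.mpr hC13).symm
      (show C ∣ 13 * 432 from (card_subgroup_dvd_card _).trans (by rw [h])))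
    have key : ∀ a, 3 ^ a ∣ C → a ≤ 3 → (3 ^ a : ℤ) ∣ v₂ := fun a ha ha3 => by
      obtain ⟨S, hS⟩ := Sylow.exists_subgroup_card_pow_prime (G := centralizer ({t} : Set G)) 3 ha
      rw [← hu']
      exact dvd_value (Char.IsIrrCharacter.isCharacter χ.2) ht hd (hu χ) hvan
        (S := S.map (centralizer ({t} : Set G)).subtype)
        (by rw [card_map_of_injective (centralizer ({t} : Set G)).subtype_injective, hS])
        (map_subtype_le S) ((pow_dvd_pow 3 ha3).trans (by norm_num))
    have hCle := Nat.le_of_dvd (by norm_num) hC432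
    have h9 : v₂ ≠ -9 → ¬ 9 ∣ C := fun hne h9 => by
      have := key 2 h9 (by norm_num)
      rcases hcases with ⟨-, e⟩ | ⟨-, e⟩ | ⟨-, e⟩
      · rw [e] at this; norm_num at this
      · rw [e] at this; norm_num at this
      · exact hne e
    have h27 : ¬ 27 ∣ C := fun h27 => by
      have := key 3 h27 le_rfl
      rcases hcases with ⟨-, e⟩ | ⟨-, e⟩ | ⟨-, e⟩ <;> rw [e] at this <;> norm_num at this
    by_cases he : v₂ = -9
    · exfalso
      have hC144 : C ∣ 144 := by
        have : ∀ c ∈ Nat.divisors 432, ¬ 27 ∣ c → c ∣ 144 := by decide +kernel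
        exact this C (Nat.mem_divisors.mpr ⟨hC432, by norm_num⟩) h27
      have := Nat.le_of_dvd (by norm_num) hC144
      rcases hcases with ⟨e1, e2⟩ | ⟨e1, e2⟩ | ⟨e1, e2⟩
      · omega
      · omega
      · rw [e1, e2] at hvsq
        norm_num at hvsq
        omega
    · have : ∀ c ∈ Nat.divisors 432, ¬ 9 ∣ c → c ∣ 48 := by decide +kernel
      exact this C (Nat.mem_divisors.mpr ⟨hC432, by norm_num⟩) (h9 he)

end Cfsg.Agent.SmallOrders.Order5616
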