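-- Subgroups of `GL(2,3)` and groups of order nine.
--
-- * `exists_neg_one_mem`: two non-commuting elements of order three generate `-1`
-- * `exists_hom_GL`: the action of a normaliser on an elementary abelian subgroup of order nine
import Cfsg.Agent.Lib.GL23Cent.Model
import Cfsg.Agent.Lib.GLOrder.Basic
import Mathlib.LinearAlgebra.Matrix.ToLinearEquiv
import Mathlib.Algebra.Module.ZMod
import Mathlib.LinearAlgebra.FreeModule.Finite.Matrix

set_option autoImplicit false

namespace Cfsg.Agent.SmallOrders.Order5616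

open Matrix Cfsg.Agent.GL23Cent

/-- `GL(2,3)` -/
abbrev GL23 : Type := GL (Fin 2) (ZMod 3)

theorem card_GL23 : Nat.card GL23 = 48 := by
  rw [GLOrder.card_GL_two, Nat.card_eq_fintype_card, ZMod.card]; norm_num

theorem exists_neg_one_mem (H : Subgroup GL23) {a b : GL23} (ha : a ∈ H) (hb : b ∈ H)
    (ha3 : a ^ 3 = 1) (hb3 : b ^ 3 = 1) (hab : a * b ≠ b * a) : (-1 : GL23) ∈ H := by
  let T : Table GL23 := Table.ofEquiv (MulEquiv.refl _)
  have hz : T.φ (-1) = kz := by
    show idx (toQ (-1 : GL23)) = kz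
    have : toQ (-1 : GL23) = (2, 0, 0, 2) := by
      simp only [toQ, Units.val_neg, Units.val_one]
      decide
    rw [this]
    decide +kernel
  have key : ∀ i j : Fin 48, GL23Cent.mul i (GL23Cent.mul i i) = k1 →
      GL23Cent.mul j (GL23Cent.mul j j) = k1 → GL23Cent.mul i j ≠ GL23Cent.mul j i →
      GL23Cent.mul (GL23Cent.mul i j) (GL23Cent.mul i j) = kz ∨
        GL23Cent.mul (GL23Cent.mul i j) (GL23Cent.mul (GL23Cent.mul i j) (GL23Cent.mul i j)) = kz := by
    decide +kernel
  have h3 : ∀ c : GL23, c ^ 3 = 1 → GL23Cent.mul (T.φ c) (GL23Cent.mul (T.φ c) (T.φ c)) = k1 := by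
    intro c hc
    rw [← T.φ_mul, ← T.φ_mul, ← pow_two, ← pow_succ', hc, T.φ_one]
  have hne : GL23Cent.mul (T.φ a) (T.φ b) ≠ GL23Cent.mul (T.φ b) (T.φ a) := fun e => by
    rw [← T.φ_mul, ← T.φ_mul] at e
    exact hab (T.φ.injective e)
  rcases key _ _ (h3 a ha3) (h3 b hb3) hne with e | e <;>
    simp only [← T.φ_mul, ← hz, T.φ.injective.eq_iff] at e <;> rw [← e]
  · exact mul_mem (mul_mem ha hb) (mul_mem ha hb)
  · exact mul_mem (mul_mem ha hb) (mul_mem (mul_mem ha hb) (mul_mem ha hb))

/-- The action of the normaliser of a subgroup of exponent three and order nine. -/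
theorem exists_hom_GL {G : Type*} [Group G] [Finite G] (D : Subgroup G) (hD : Nat.card D = 9)
    (hexp : ∀ d : D, d ^ 3 = 1) :
    ∃ f : Subgroup.normalizer (D : Set G) →* GL23,
      (∀ g, f g = 1 ↔ (g : G) ∈ Subgroup.centralizer (D : Set G)) ∧
      ∀ g, f g = -1 → ∀ d ∈ D, (g : G) * d * (g : G)⁻¹ = d⁻¹ := by
  have : Fact (Nat.Prime 3) := ⟨Nat.prime_three⟩
  have hab : IsMulCommutative D := IsPGroup.isMulCommutative_of_card_eq_prime_sq (p := 3) (hD.trans (by norm_num))
  letI : CommGroup D := { (inferInstance : Group D) with mul_comm := fun a b => mul_comm' a b }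
  letI : Module (ZMod 3) (Additive D) :=
    AddCommGroup.zmodModule (n := 3) fun v => congrArg Additive.ofMul (hexp (Additive.toMul v))
  haveI : Fintype (Additive D) := Fintype.ofFinite _
  have hrk : Module.finrank (ZMod 3) (Additive D) = 2 := by
    have h := Module.card_eq_pow_finrank (K := ZMod 3) (V := Additive D)
    rw [ZMod.card, ← Nat.card_eq_fintype_card, Nat.card_congr Additive.toMul, hD] at h
    exact Nat.pow_right_injective (by norm_num : 2 ≤ 3) (h.symm.trans (by norm_num : (9 : ℕ) = 3 ^ 2))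
  let b := Module.finBasisOfFinrankEq (ZMod 3) (Additive D) hrk
  let ρ : MulAut D →* Module.End (ZMod 3) (Additive D) :=
    { toFun := fun u => u.toMonoidHom.toAdditive.toZModLinearMap 3
      map_one' := LinearMap.ext fun v => by simp
      map_mul' := fun u w => LinearMap.ext fun v => by simp }
  let μ : MulAut D →* GL23 :=
    ((LinearMap.toMatrixAlgEquiv b).toMulEquiv.toMonoidHom.comp ρ).toHomUnits
  have hμ : Function.Injective μ := fun u w h => by
    have h1 : ρ u = ρ w := (LinearMap.toMatrixAlgEquiv b).injective (congrArg Units.val h)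
    exact MulEquiv.ext fun v => congrArg Additive.toMul (LinearMap.congr_fun h1 (Additive.ofMul v))
  refine ⟨μ.comp D.normalizerMonoidHom, fun g => ?_, fun g hg d hd => ?_⟩
  · rw [MonoidHom.comp_apply, map_eq_one_iff μ hμ]
    constructor
    · intro h
      refine Subgroup.mem_centralizer_iff.mpr fun d hd => ?_
      have h1 := congrArg Subtype.val (MulEquiv.congr_fun h ⟨d, hd⟩)
      exact (mul_inv_eq_iff_eq_mul.mp h1).symm
    · intro h
      ext ⟨d, hd⟩
      exact mul_inv_eq_iff_eq_mul.mpr (Subgroup.mem_centralizer_iff.mp h d hd).symm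
  · have hinv : μ (MulEquiv.inv D) = -1 := by
      apply Units.ext
      show LinearMap.toMatrixAlgEquiv b (ρ (MulEquiv.inv D)) = ((-1 : GL23) : Matrix _ _ _)
      rw [Units.val_neg, Units.val_one, ← map_one (LinearMap.toMatrixAlgEquiv b), ← map_neg]
      congr 1
    have h1 := hμ (hg.trans hinv.symm)
    exact congrArg Subtype.val (MulEquiv.congr_fun h1 ⟨d, hd⟩)

end Cfsg.Agent.SmallOrders.Order5616
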