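-- The centraliser of an involution in a simple group of order 5616.
--
-- * `sylow_three_not_self_normalizing`, `exists_inter`
-- * `exists_frame`: an elementary subgroup of order nine, its normaliser and an inverting involution
-- * `exists_centralizer_GL`
import Cfsg.Agent.Lib.SmallOrders.Order5616.Involutions
import Cfsg.Agent.Lib.SmallOrders.Order5616.Plane
import Cfsg.Agent.Lib.SmallOrders.Tools
import Cfsg.Agent.Lib.HallWielandt.Basic

set_option autoImplicit false

namespace Cfsg.Agent.SmallOrders.Order5616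

open Subgroup
open scoped commutatorElement

variable {G : Type*} [Group G] [Finite G]

theorem normalizer_le_centralizer' (D : Subgroup G) :
    normalizer (D : Set G) ≤ normalizer (centralizer (D : Set G) : Set G) := by
  intro g hg
  have hfwd : ∀ k ∈ normalizer (D : Set G), ∀ a ∈ centralizer (D : Set G),
      k * a * k⁻¹ ∈ centralizer (D : Set G) := fun k hk a ha => mem_centralizer_iff.mpr fun d hd => by
    have hd' : k⁻¹ * d * k ∈ D := (mem_normalizer_iff''.mp hk d).mp hd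
    have h1 := mem_centralizer_iff.mp ha _ hd'
    calc d * (k * a * k⁻¹) = k * ((k⁻¹ * d * k) * a) * k⁻¹ := by group
      _ = k * (a * (k⁻¹ * d * k)) * k⁻¹ := by rw [h1]
      _ = k * a * k⁻¹ * d := by group
  refine mem_normalizer_iff.mpr fun a => ⟨hfwd g hg a, fun ha => ?_⟩
  have := hfwd g⁻¹ (inv_mem hg) _ ha
  simpa [mul_assoc] using this

variable [IsSimpleGroup G]

theorem sylow_three_card [Fact (Nat.Prime 3)] (h : Nat.card G = 5616) (P : Sylow 3 G) :
    Nat.card (P : Subgroup G) = 27 := by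
  rw [card_sylow_subgroup (p := 3) (e := 3) (m := 208) (by rw [h]; norm_num) (by norm_num) P]
  norm_num

theorem sylow_three_not_self_normalizing [Fact (Nat.Prime 3)] (h : Nat.card G = 5616) (P : Sylow 3 G) :
    normalizer ((P : Subgroup G) : Set G) ≠ P := by
  intro hN
  have hP27 := sylow_three_card h P
  have hwc : Cfsg.IsWeaklyClosed (P : Subgroup G) (P : Subgroup G) := by
    refine ⟨le_rfl, fun g hg => eq_of_le_of_card_ge hg ?_⟩
    rw [card_map_of_injective (MulAut.conj g).injective]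
  have hab : ∀ u ∈ (P : Subgroup G), ∀ z ∈ (P : Subgroup G), ∀ w ∈ (P : Subgroup G),
      w * (HallWielandt.comm z u) = HallWielandt.comm z u * w := by
    intro u hu z hz w hw
    have hPp : IsPGroup 3 (P : Subgroup G) := P.isPGroup'
    have hZ : 1 < Nat.card (center (P : Subgroup G)) := by
      have : Nontrivial (P : Subgroup G) := Finite.one_lt_card_iff_nontrivial.mp (by rw [hP27]; norm_num)
      have := hPp.center_nontrivial
      exact Finite.one_lt_card
    have hq : IsMulCommutative ((P : Subgroup G) ⧸ center (P : Subgroup G)) := by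
      have hd := (center (P : Subgroup G)).card_mul_index
      rw [hP27, index_eq_card] at hd
      have hd3 : Nat.card ((P : Subgroup G) ⧸ center (P : Subgroup G)) ∈ Nat.divisors 27 :=
        Nat.mem_divisors.mpr ⟨Dvd.intro_left _ hd, by norm_num⟩
      have : ∀ c ∈ Nat.divisors 27, c = 1 ∨ c = 3 ∨ c = 9 ∨ c = 27 := by decide +kernel
      rcases this _ hd3 with e | e | e | e
      · have := (Nat.card_eq_one_iff_unique.mp e).1
        exact ⟨⟨fun _ _ => Subsingleton.elim _ _⟩⟩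
      · have := isCyclic_of_prime_card e
        infer_instance
      · exact IsPGroup.isMulCommutative_of_card_eq_prime_sq (p := 3) (e.trans (by norm_num))
      · rw [e] at hd; omega
    have hmem : (⟨u, hu⟩ : (P : Subgroup G))⁻¹ * (⟨z, hz⟩)⁻¹ * ⟨u, hu⟩ * ⟨z, hz⟩ ∈ center (P : Subgroup G) := by
      rw [← QuotientGroup.eq_one_iff]
      simp only [QuotientGroup.mk_mul, QuotientGroup.mk_inv]
      rw [mul_assoc _ _ (QuotientGroup.mk (⟨z, hz⟩ : (P : Subgroup G))),
        mul_comm' (QuotientGroup.mk (⟨u, hu⟩ : (P : Subgroup G))) (QuotientGroup.mk (⟨z, hz⟩ : (P : Subgroup G)))]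
      simp [mul_assoc]
    exact congrArg Subtype.val (mem_center_iff.mp hmem ⟨w, hw⟩)
  have hE : ∀ u ∈ (P : Subgroup G), ∀ z ∈ (P : Subgroup G), (HallWielandt.comm z)^[3 - 1] u = 1 := by
    intro u hu z hz
    show HallWielandt.comm z (HallWielandt.comm z u) = 1
    have := hab u hu z hz z⁻¹ (inv_mem hz)
    show (HallWielandt.comm z u)⁻¹ * z⁻¹ * HallWielandt.comm z u * z = 1
    rw [mul_assoc _ z⁻¹, this]
    simp [mul_assoc]
  have hHW := HallWielandt.pResidual_inf_eq P (P : Subgroup G) hwc hE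
  rw [hN] at hHW
  have hbot : Cfsg.pResidualOf 3 (P : Subgroup G) = ⊥ := by
    rw [Cfsg.pResidualOf, Cfsg.pResidual, Subgroup.map_eq_bot_iff, closure_le]
    intro g hg
    obtain ⟨k, hk⟩ := IsPGroup.iff_orderOf.1 P.isPGroup' g
    rw [Set.mem_setOf_eq, hk] at hg
    rcases k with _ | k
    · rw [SetLike.mem_coe, MonoidHom.mem_ker, orderOf_eq_one_iff.mp (show orderOf g = 1 by rw [hk, pow_zero])]
      exact map_one _
    · exfalso
      rw [Nat.coprime_pow_left_iff (Nat.succ_pos k)] at hg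
      norm_num at hg
  have htop : Cfsg.pResidual 3 G = ⊤ := by
    have hn : (Cfsg.pResidual 3 G).Normal := by
      constructor
      intro a ha g
      have : (Cfsg.pResidual 3 G).map (MulAut.conj g).toMonoidHom ≤ Cfsg.pResidual 3 G := by
        rw [Cfsg.pResidual, MonoidHom.map_closure, closure_le]
        rintro _ ⟨b, hb, rfl⟩
        exact subset_closure (show Nat.Coprime (orderOf ((MulAut.conj g) b)) 3 by
          rw [(MulAut.conj g).orderOf_eq]; exact hb)
      exact this (mem_map_of_mem _ ha)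
    refine hn.eq_bot_or_eq_top.resolve_left fun hb => ?_
    obtain ⟨t, ht⟩ := exists_prime_orderOf_dvd_card' (G := G) 2 (hp := ⟨Nat.prime_two⟩)
      (by rw [h]; norm_num)
    have : t ∈ Cfsg.pResidual 3 G := subset_closure (show Nat.Coprime (orderOf t) 3 by rw [ht]; norm_num)
    rw [hb, mem_bot] at this
    rw [this, orderOf_one] at ht
    omega
  rw [hbot, htop, top_inf_eq] at hHW
  rw [← hHW, card_bot] at hP27
  omega

theorem exists_inter [Fact (Nat.Prime 3)] (hG : ¬ IsMulCommutative G) (h : Nat.card G = 5616) :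
    ∃ P R : Sylow 3 G, P ≠ R ∧ Nat.card ((P : Subgroup G) ⊓ R : Subgroup G) = 9 := by
  obtain ⟨P₀⟩ := (inferInstance : Nonempty (Sylow 3 G))
  have hd : Nat.card (Sylow 3 G) ∣ 208 :=
    index_sylow (p := 3) (e := 3) (m := 208) (by rw [h]; norm_num) (by norm_num) P₀ ▸ P₀.card_dvd_index
  have hmod : Nat.card (Sylow 3 G) % 3 = 1 := card_sylow_modEq_one 3 G
  have h1 : 1 < Nat.card (Sylow 3 G) := one_lt_card_sylow hG (by rw [h]; norm_num)
  have h208 : Nat.card (Sylow 3 G) ≠ 208 := by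
    intro e
    apply sylow_three_not_self_normalizing h P₀
    have := card_normalizer_mul_card_sylow P₀
    rw [e, h] at this
    exact (eq_of_le_of_card_ge le_normalizer (by rw [sylow_three_card h P₀]; omega)).symm
  have key : ∀ d ∈ Nat.divisors 208, d % 3 = 1 → 1 < d → d ≠ 208 → d % 9 ≠ 1 := by decide +kernel
  have h9 : ¬ Nat.card (Sylow 3 G) ≡ 1 [MOD 3 ^ 2] :=
    key _ (Nat.mem_divisors.mpr ⟨hd, by norm_num⟩) hmod h1 h208
  obtain ⟨P, R, hPR, hidx⟩ := exists_pair_index_le 3 2 h9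
  refine ⟨P, R, hPR, ?_⟩
  set D := (R : Subgroup G).subgroupOf (P : Subgroup G) with hD
  have hmul := D.card_mul_index
  rw [sylow_three_card h P] at hmul
  have hne : D.index ≠ 1 := fun e => hPR (Sylow.ext (eq_of_le_of_card_ge
    (subgroupOf_eq_top.mp (index_eq_one.mp e)) (by rw [sylow_three_card h, sylow_three_card h])))
  have key2 : ∀ d ∈ Nat.divisors 27, d ≤ 3 → d ≠ 1 → d = 3 := by decide +kernel
  have h3 : D.index = 3 := key2 _ (Nat.mem_divisors.mpr ⟨Dvd.intro_left _ hmul, by norm_num⟩)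
    (by simpa using hidx) hne
  rw [h3] at hmul
  have hc : Nat.card D = 9 := by omega
  rw [← hc, hD, ← inf_subgroupOf_left]
  exact (Nat.card_congr (subgroupOfEquivOfLe inf_le_left).toEquiv).symm

omit [IsSimpleGroup G] in
theorem le_normalizer_of_card [Fact (Nat.Prime 3)] {P D : Subgroup G} (hP : Nat.card P = 27)
    (hD : Nat.card D = 9) (hle : D ≤ P) : P ≤ normalizer (D : Set G) := by
  have hidx : (D.subgroupOf P).index = 3 := by
    have := (D.subgroupOf P).card_mul_index
    rw [Nat.card_congr (subgroupOfEquivOfLe hle).toEquiv, hD, hP] at this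
    omega
  have : (D.subgroupOf P).Normal := normal_of_index_eq_minFac_card (by
    rw [hidx, hP, show (27 : ℕ) = 3 ^ 3 by norm_num, Nat.pow_minFac (by norm_num),
      Nat.prime_three.minFac_eq])
  exact (normal_subgroupOf_iff_le_normalizer hle).mp this

/-- The local subgroup. -/
theorem exists_frame [Fact (Nat.Prime 3)] (hG : ¬ IsMulCommutative G) (h : Nat.card G = 5616) :
    ∃ (P : Sylow 3 G) (D : Subgroup G) (τ : G) (f : normalizer (D : Set G) →* GL23)
      (hτ : τ ∈ normalizer (D : Set G)),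
      D ≤ (P : Subgroup G) ∧ (P : Subgroup G) ≤ normalizer (D : Set G) ∧ Nat.card D = 9 ∧
      centralizer (D : Set G) = D ∧ (∀ g, f g = 1 ↔ (g : G) ∈ D) ∧
      (∀ d ∈ D, d ^ 3 = 1) ∧ ¬ normalizer (D : Set G) ≤ normalizer ((P : Subgroup G) : Set G) ∧
      orderOf τ = 2 ∧ f ⟨τ, hτ⟩ = -1 ∧ (∀ d ∈ D, τ * d * τ⁻¹ = d⁻¹) ∧
      24 ≤ Nat.card f.range := by
  obtain ⟨P, R, hPR, hD9⟩ := exists_inter hG h
  set D := (P : Subgroup G) ⊓ R with hDdef
  set M := normalizer (D : Set G) with hMdef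
  have hPM := le_normalizer_of_card (sylow_three_card h P) hD9 (inf_le_left : D ≤ _)
  have hRM := le_normalizer_of_card (sylow_three_card h R) hD9 (inf_le_right : D ≤ _)
  rw [← hMdef] at hPM hRM
  have hDab : IsMulCommutative D :=
    IsPGroup.isMulCommutative_of_card_eq_prime_sq (p := 3) (hD9.trans (by norm_num))
  set K := centralizer (D : Set G) with hKdef
  have hDK : D ≤ K := fun d hd => mem_centralizer_iff.mpr fun e he =>
    congrArg Subtype.val (mul_comm' (⟨e, he⟩ : D) ⟨d, hd⟩)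
  have hK2 : ¬ 2 ∣ Nat.card K := fun h2 => by
    obtain ⟨⟨s, hs⟩, hso⟩ := exists_prime_orderOf_dvd_card' (G := K) 2 (hp := ⟨Nat.prime_two⟩) h2
    rw [orderOf_mk] at hso
    have hle : D ≤ centralizer ({s} : Set G) := fun d hd =>
      mem_centralizer_singleton_iff.mpr (mem_centralizer_iff.mp hs d hd)
    have := (hD9 ▸ card_dvd_of_le hle).trans (card_centralizer_involution hG h hso)
    norm_num at this
  have hK13 : ¬ 13 ∣ Nat.card K := fun h13 => by
    obtain ⟨⟨s, hs⟩, hso⟩ := exists_prime_orderOf_dvd_card' (G := K) 13 (hp := ⟨by norm_num⟩) h13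
    rw [orderOf_mk] at hso
    have hle : D ≤ centralizer ({s} : Set G) := fun d hd =>
      mem_centralizer_singleton_iff.mpr (mem_centralizer_iff.mp hs d hd)
    have := card_dvd_of_le hle
    rw [card_centralizer_x hG h hso, hD9] at this
    norm_num at this
  have hK3 : IsPGroup 3 K := by
    have key : ∀ c ∈ Nat.divisors 5616, ¬ 2 ∣ c → ¬ 13 ∣ c → c = 1 ∨ c = 3 ∨ c = 9 ∨ c = 27 := by
      decide +kernel
    rcases key _ (Nat.mem_divisors.mpr ⟨h ▸ card_subgroup_dvd_card K, by norm_num⟩) hK2 hK13 with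
      e | e | e | e
    · exact IsPGroup.of_card (n := 0) (by rw [e]; norm_num)
    · exact IsPGroup.of_card (n := 1) (by rw [e]; norm_num)
    · exact IsPGroup.of_card (n := 2) (by rw [e]; norm_num)
    · exact IsPGroup.of_card (n := 3) (by rw [e]; norm_num)
  have hMK : M ≤ normalizer (K : Set G) := normalizer_le_centralizer' D
  have hKle : ∀ S : Sylow 3 G, (S : Subgroup G) ≤ M → K ≤ (S : Subgroup G) := fun S hS => by
    have hp := S.isPGroup'.to_sup_of_normal_right' hK3 (hS.trans hMK)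
    exact le_sup_right.trans (S.is_maximal' hp le_sup_left).le
  have hKD : K = D := le_antisymm (le_inf (hKle P hPM) (hKle R hRM)) hDK
  -- exponent three
  have hexp : ∀ d : D, d ^ 3 = 1 := by
    by_contra hne
    push Not at hne
    obtain ⟨d, hd⟩ := hne
    have hd9 : orderOf d = 9 := by
      have h1 : orderOf d ∣ 9 := hD9 ▸ orderOf_dvd_natCard d
      have : ∀ c ∈ Nat.divisors 9, ¬ c ∣ 3 → c = 9 := by decide +kernel
      exact this _ (Nat.mem_divisors.mpr ⟨h1, by norm_num⟩) fun h3 => hd (orderOf_dvd_iff_pow_eq_one.mp h3)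
    have hcyc : IsCyclic D := isCyclic_of_orderOf_eq_card d (by rw [hd9, hD9])
    set ψ := D.normalizerMonoidHom with hψ
    have haut : Nat.card (MulAut D) = 6 := by
      rw [IsCyclic.card_mulAut, hD9]; decide
    have hcomm : ∀ u v : MulAut D, u * v = v * u := fun u v =>
      (IsCyclic.mulAutMulEquiv D).injective (by rw [map_mul, map_mul, mul_comm])
    have hker : ∀ g : M, ψ g = 1 → (g : G) ∈ D := fun g hg => hKD ▸ mem_centralizer_iff.mpr fun e he =>
      (mul_inv_eq_iff_eq_mul.mp (congrArg Subtype.val (MulEquiv.congr_fun hg ⟨e, he⟩))).symm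
    set A := ((P : Subgroup G).subgroupOf M).map ψ with hA
    set B := ((R : Subgroup G).subgroupOf M).map ψ with hB
    have hA3 : IsPGroup 3 A := (P.isPGroup'.of_equiv (subgroupOfEquivOfLe hPM).symm).map ψ
    have hB3 : IsPGroup 3 B := (R.isPGroup'.of_equiv (subgroupOfEquivOfLe hRM).symm).map ψ
    have hBA : B ≤ normalizer (A : Set (MulAut D)) := fun u _ => mem_normalizer_iff.mpr fun v => by
      rw [hcomm u v, mul_inv_cancel_right]
    have hsup : IsPGroup 3 (B ⊔ A : Subgroup (MulAut D)) := hB3.to_sup_of_normal_right' hA3 hBA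
    obtain ⟨k, hk⟩ := IsPGroup.iff_card.mp hsup
    have hk6 : 3 ^ k ∣ 6 := hk ▸ haut ▸ card_subgroup_dvd_card _
    have hk1 : k ≤ 1 := by
      by_contra hlt
      have := (pow_dvd_pow 3 (show 2 ≤ k by omega)).trans hk6
      norm_num at this
    have hAne : A ≠ ⊥ := fun hb => by
      have hle : (P : Subgroup G) ≤ D := fun g hg => hker ⟨g, hPM hg⟩
        (mem_bot.mp (hb ▸ mem_map_of_mem ψ (show (⟨g, hPM hg⟩ : M) ∈ (P : Subgroup G).subgroupOf M from hg)))
      have := card_le_of_le hle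
      rw [sylow_three_card h, hD9] at this
      omega
    have hA1 : 1 < Nat.card A := (one_lt_card_iff_ne_bot _).mpr hAne
    have hAeq : A = B ⊔ A := eq_of_le_of_card_ge le_sup_right (by
      rw [hk]
      have := Nat.pow_le_pow_right (show 0 < 3 by norm_num) hk1
      obtain ⟨j, hj⟩ := IsPGroup.iff_card.mp hA3
      rw [hj] at hA1 ⊢
      rcases j with _ | j
      · norm_num at hA1
      · have := Nat.pow_le_pow_right (show 0 < 3 by norm_num) (show 1 ≤ j + 1 by omega)
        omega)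
    refine hPR (Sylow.ext (eq_of_le_of_card_ge (fun g hg => ?_) (by
      rw [sylow_three_card h, sylow_three_card h])).symm)
    have hgA : ψ ⟨g, hRM hg⟩ ∈ A := by
      rw [hAeq]
      exact (le_sup_left : B ≤ B ⊔ A) (mem_map_of_mem ψ (show (⟨g, hRM hg⟩ : M) ∈
        (R : Subgroup G).subgroupOf M from hg))
    obtain ⟨p, hp, hpe⟩ := hgA
    have hpD : ((p : G)⁻¹ * g) ∈ D := hker (p⁻¹ * ⟨g, hRM hg⟩) (by rw [map_mul, map_inv, hpe, inv_mul_cancel])
    have := mul_mem (show (p : G) ∈ (P : Subgroup G) from hp) (inf_le_left (b := (R : Subgroup G)) hpD)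
    rwa [mul_inv_cancel_left] at this
  obtain ⟨f, hf, hfinv⟩ := exists_hom_GL D hD9 hexp
  have hfD : ∀ g : M, f g = 1 ↔ (g : G) ∈ D := fun g => by rw [hf, ← hKdef, hKD]
  -- two elements of order three
  have hpick : ∀ S : Sylow 3 G, (S : Subgroup G) ≤ M → D ≤ (S : Subgroup G) →
      ∃ g : M, (g : G) ∈ (S : Subgroup G) ∧ (g : G) ∉ D ∧ f g ^ 3 = 1 := by
    intro S hS hDS
    obtain ⟨g, hgS, hgD⟩ : ∃ g ∈ (S : Subgroup G), g ∉ D := by
      by_contra! hle
      have := card_le_of_le (fun g hg => hle g hg : (S : Subgroup G) ≤ D)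
      rw [sylow_three_card h, hD9] at this
      omega
    refine ⟨⟨g, hS hgS⟩, hgS, hgD, ?_⟩
    obtain ⟨k, hk⟩ := IsPGroup.iff_orderOf.1 S.isPGroup' ⟨g, hgS⟩
    rw [orderOf_mk] at hk
    have h1 : orderOf (f ⟨g, hS hgS⟩) ∣ 3 ^ k :=
      hk ▸ (orderOf_map_dvd f _).trans (by rw [orderOf_mk])
    obtain ⟨j, -, hj⟩ := (Nat.dvd_prime_pow Nat.prime_three).mp h1
    have h48 : 3 ^ j ∣ 48 := hj ▸ card_GL23 ▸ orderOf_dvd_natCard _
    have hj1 : j ≤ 1 := by
      by_contra hlt
      have := (pow_dvd_pow 3 (show 2 ≤ j by omega)).trans h48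
      norm_num at this
    exact orderOf_dvd_iff_pow_eq_one.mp (hj ▸ (pow_dvd_pow 3 hj1).trans (by norm_num))
  obtain ⟨a, haP, haD, ha3⟩ := hpick P hPM inf_le_left
  obtain ⟨b, hbR, hbD, hb3⟩ := hpick R hRM inf_le_right
  set a' := f a
  set b' := f b
  have ha' : orderOf a' = 3 := orderOf_eq_prime ha3 fun e => haD ((hfD a).mp e)
  have hb' : orderOf b' = 3 := orderOf_eq_prime hb3 fun e => hbD ((hfD b).mp e)
  have hbA : b' ∉ zpowers a' := fun hmem => by
    obtain ⟨i, hi⟩ := mem_zpowers_iff.mp hmem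
    have hd : f ((a ^ i)⁻¹ * b) = 1 := by rw [map_mul, map_inv, map_zpow, hi, inv_mul_cancel]
    have hd' : ((a ^ i : M) : G)⁻¹ * (b : G) ∈ (P : Subgroup G) := (hfD _).mp hd |> inf_le_left (b := (R : Subgroup G))
    have := mul_mem (show ((a ^ i : M) : G) ∈ (P : Subgroup G) by
      rw [SubgroupClass.coe_zpow]; exact zpow_mem haP i) hd'
    rw [mul_inv_cancel_left] at this
    exact hbD ⟨this, hbR⟩
  have hab : a' * b' ≠ b' * a' := fun hc => by
    have hnorm : zpowers b' ≤ normalizer (zpowers a' : Set GL23) := by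
      rw [zpowers_le]
      refine centralizer_le_normalizer _ ?_
      rw [centralizer_zpowers]
      exact mem_centralizer_singleton_iff.mpr hc.symm
    have hsup : IsPGroup 3 (zpowers b' ⊔ zpowers a' : Subgroup GL23) :=
      (IsPGroup.of_card (n := 1) (by rw [Nat.card_zpowers, hb', pow_one])).to_sup_of_normal_right'
        (IsPGroup.of_card (n := 1) (by rw [Nat.card_zpowers, ha', pow_one])) hnorm
    obtain ⟨k, hk⟩ := IsPGroup.iff_card.mp hsup
    have h48 : 3 ^ k ∣ 48 := hk ▸ card_GL23 ▸ card_subgroup_dvd_card _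
    have hk1 : k ≤ 1 := by
      by_contra hlt
      have := (pow_dvd_pow 3 (show 2 ≤ k by omega)).trans h48
      norm_num at this
    have := eq_of_le_of_card_ge (le_sup_right : zpowers a' ≤ zpowers b' ⊔ zpowers a') (by
      rw [hk, Nat.card_zpowers, ha']
      calc 3 ^ k ≤ 3 ^ 1 := Nat.pow_le_pow_right (by norm_num) hk1
        _ = 3 := pow_one 3)
    exact hbA (this ▸ (le_sup_left : zpowers b' ≤ _) (mem_zpowers b'))
  have hneg : (-1 : GL23) ∈ f.range := exists_neg_one_mem f.range ⟨a, rfl⟩ ⟨b, rfl⟩ ha3 hb3 hab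
  obtain ⟨m, hm⟩ := hneg
  set τ : M := m ^ 3 with hτdef
  have hfτ : f τ = -1 := by
    rw [hτdef, map_pow, hm]
    rw [pow_succ, pow_two, neg_one_mul, neg_neg, one_mul]
  have hm2 : ((m * m : M) : G) ∈ D := (hfD _).mp (by rw [map_mul, hm, neg_one_mul, neg_neg])
  have hτ2 : (τ : G) * τ = 1 := by
    have := congrArg Subtype.val (hexp ⟨_, hm2⟩)
    simp only [SubgroupClass.coe_pow, coe_one, Subgroup.coe_mul] at this
    rw [hτdef, SubgroupClass.coe_pow, ← this, ← pow_add, ← pow_two, ← pow_mul]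
  have hne1 : (-1 : GL23) ≠ 1 := fun e => by
    have := congrArg (fun u : GL23 => (u : Matrix (Fin 2) (Fin 2) (ZMod 3)) 0 0) e
    simp only [Units.val_neg, Units.val_one] at this
    revert this
    decide
  have hτo : orderOf (τ : G) = 2 := orderOf_eq_prime (by rw [pow_two, hτ2]) fun e => by
    have : τ = 1 := Subtype.ext e
    rw [this, map_one] at hfτ
    exact hne1 hfτ.symm
  have hnot : ¬ M ≤ normalizer ((P : Subgroup G) : Set G) := fun hle => hPR (Sylow.ext
    (eq_of_le_of_card_ge (fun g hg => (show g ∈ (R : Subgroup G) ⊓ (P : Subgroup G) from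
      R.isPGroup'.inf_normalizer_sylow P ▸ ⟨hg, hle (hRM hg)⟩).2) (by
      rw [sylow_three_card h, sylow_three_card h])).symm)
  refine ⟨P, D, τ, f, τ.2, inf_le_left, hPM, hD9, hKD, hfD,
    fun d hd => congrArg Subtype.val (hexp ⟨d, hd⟩), hnot, hτo, hfτ, hfinv τ hfτ, ?_⟩
  -- at least four Sylow 3-subgroups and a central involution
  set I := f.range with hI
  have hIc : Nat.card I ∣ 48 := card_GL23 ▸ card_subgroup_dvd_card I
  let a₁ : I := ⟨a', ⟨a, rfl⟩⟩
  let b₁ : I := ⟨b', ⟨b, rfl⟩⟩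
  let z₁ : I := ⟨-1, ⟨m, hm⟩⟩
  have h3I : ¬ 9 ∣ Nat.card I := fun h9 => by have := h9.trans hIc; norm_num at this
  have hfac : Nat.card I = 3 * (Nat.card I / 3) := by
    rw [Nat.mul_div_cancel']
    have := orderOf_dvd_natCard a₁
    rwa [show orderOf a₁ = 3 from (orderOf_coe a₁).symm.trans ha'] at this
  have hS : ∀ S : Sylow 3 I, Nat.card (S : Subgroup I) = 3 := fun S => by
    rw [card_sylow_subgroup (p := 3) (e := 1) (m := Nat.card I / 3) (by rw [pow_one]; exact hfac)
      (fun h' => h3I (hfac ▸ Nat.mul_dvd_mul_left 3 h')) S, pow_one]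
  obtain ⟨S, hSa⟩ := exists_sylow_eq_zpowers hS (show orderOf a₁ = 3 from (orderOf_coe a₁).symm.trans ha')
  obtain ⟨T, hTb⟩ := exists_sylow_eq_zpowers hS (show orderOf b₁ = 3 from (orderOf_coe b₁).symm.trans hb')
  have hn : 4 ≤ Nat.card (Sylow 3 I) := by
    have h1 : 1 < Nat.card (Sylow 3 I) := by
      by_contra hle
      have : Subsingleton (Sylow 3 I) := Finite.card_le_one_iff_subsingleton.mp (by omega)
      have hb1 : b₁ ∈ zpowers a₁ := by
        rw [← hSa, Subsingleton.elim S T, hTb]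
        exact mem_zpowers b₁
      obtain ⟨i, hi⟩ := mem_zpowers_iff.mp hb1
      exact hbA (mem_zpowers_iff.mpr ⟨i, (SubgroupClass.coe_zpow a₁ i).symm.trans (congrArg Subtype.val hi)⟩)
    have h2 : Nat.card (Sylow 3 I) % 3 = 1 := card_sylow_modEq_one 3 I
    omega
  have hz : z₁ ∈ normalizer ((S : Subgroup I) : Set I) := centralizer_le_normalizer _ <|
    mem_centralizer_iff.mpr fun y _ => Subtype.ext (by
      show (y : GL23) * (-1) = -1 * (y : GL23)
      rw [mul_neg, neg_mul, mul_one, one_mul])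
  have h2N : 2 ∣ Nat.card (normalizer ((S : Subgroup I) : Set I)) := by
    have := orderOf_dvd_natCard _ hz
    rwa [show orderOf z₁ = 2 from orderOf_eq_prime (Subtype.ext (by
      show ((-1 : GL23)) ^ 2 = 1
      rw [pow_two, neg_mul_neg, one_mul])) fun e => hne1 (congrArg Subtype.val e)] at this
  have h3N : 3 ∣ Nat.card (normalizer ((S : Subgroup I) : Set I)) :=
    (dvd_of_eq (hS S).symm).trans (card_dvd_of_le le_normalizer)
  have h6 := Nat.le_of_dvd Nat.card_pos (Nat.Coprime.mul_dvd_of_dvd_of_dvd (by norm_num) h2N h3N)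
  have := Nat.mul_le_mul h6 hn
  rw [card_normalizer_mul_card_sylow] at this
  omega

/-- The image is all of `GL(2,3)` and the centraliser of the inverting involution maps onto it. -/
theorem exists_centralizer_GL (hG : ¬ IsMulCommutative G) (h : Nat.card G = 5616) :
    ∃ t : G, orderOf t = 2 ∧ Nonempty (centralizer ({t} : Set G) ≃* GL23) := by
  have : Fact (Nat.Prime 3) := ⟨Nat.prime_three⟩
  obtain ⟨P, D, τ, f, hτM, hDP, hPM, hD9, hKD, hfD, hexp, hnot, hτ, hfτ, hinv, h24⟩ := exists_frame hG h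
  let M := normalizer (D : Set G)
  have hτ2 : τ * τ = 1 := by rw [← pow_two, ← hτ, pow_orderOf_eq_one]
  have hdd : ∀ d ∈ D, d * d = 1 → d = 1 := fun d hd e => by
    have h2 : orderOf d ∣ 2 := orderOf_dvd_of_pow_eq_one (by rw [pow_two, e])
    have h9 : orderOf d ∣ 9 := hD9 ▸ orderOf_dvd_natCard _ hd
    exact orderOf_eq_one_iff.mp (Nat.dvd_one.mp (Nat.dvd_gcd h2 h9))
  have hd4 : ∀ d ∈ D, d ^ 4 = d := fun d hd => by rw [pow_succ, hexp d hd, one_mul]
  set C := centralizer ({τ} : Set G) with hC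
  let g : (M ⊓ C : Subgroup G) →* GL23 := f.comp (inclusion inf_le_left)
  have hginj : Function.Injective g := by
    refine (injective_iff_map_eq_one g).mpr fun x hx => Subtype.ext ?_
    have hxD : (x : G) ∈ D := (hfD _).mp hx
    have h1 := hinv _ hxD
    rw [← mem_centralizer_singleton_iff.mp x.2.2, mul_inv_cancel_right] at h1
    exact hdd _ hxD (by nth_rw 1 [h1]; rw [inv_mul_cancel])
  have hrange : f.range ≤ g.range := by
    rintro _ ⟨y, rfl⟩
    have hc : (y : G) * τ * (y : G)⁻¹ * τ⁻¹ ∈ D := by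
      have : f (y * ⟨τ, hτM⟩ * y⁻¹ * ⟨τ, hτM⟩⁻¹) = 1 := by
        simp only [map_mul, map_inv, hfτ, mul_neg, mul_one, neg_mul, mul_inv_cancel]
      exact (hfD _).mp this
    set c := (y : G) * τ * (y : G)⁻¹ * τ⁻¹ with hcdef
    have hc2 : c ^ 2 ∈ D := pow_mem hc 2
    have hyτ : (y : G) * τ * (y : G)⁻¹ = c * τ := by rw [hcdef]; group
    have hconj : c ^ 2 * τ * (c ^ 2)⁻¹ = c * τ := by
      have h1 := hinv _ (inv_mem hc2)
      rw [inv_inv] at h1
      calc c ^ 2 * τ * (c ^ 2)⁻¹ = c ^ 2 * (τ * (c ^ 2)⁻¹ * τ⁻¹) * τ := by group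
        _ = c ^ 4 * τ := by rw [h1]; group
        _ = c * τ := by rw [hd4 c hc]
    have hmem : (c ^ 2)⁻¹ * (y : G) ∈ M ⊓ C := by
      refine ⟨mul_mem (le_normalizer (inv_mem hc2)) y.2, mem_centralizer_singleton_iff.mpr ?_⟩
      calc (c ^ 2)⁻¹ * (y : G) * τ = (c ^ 2)⁻¹ * ((y : G) * τ * (y : G)⁻¹) * y := by group
        _ = (c ^ 2)⁻¹ * (c ^ 2 * τ * (c ^ 2)⁻¹) * y := by rw [hyτ, hconj]
        _ = τ * ((c ^ 2)⁻¹ * y) := by group
    refine ⟨⟨_, hmem⟩, ?_⟩
    show f ⟨_, hmem.1⟩ = f y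
    have h1 : f ⟨(c ^ 2)⁻¹, le_normalizer (inv_mem hc2)⟩ = 1 := (hfD _).mpr (inv_mem hc2)
    rw [show (⟨(c ^ 2)⁻¹ * (y : G), hmem.1⟩ : M) = ⟨(c ^ 2)⁻¹, le_normalizer (inv_mem hc2)⟩ * y from rfl,
      map_mul, h1, one_mul]
  have hgc : Nat.card g.range = Nat.card (M ⊓ C : Subgroup G) :=
    (Nat.card_congr (MonoidHom.ofInjective hginj).toEquiv).symm
  have hC48 := card_centralizer_involution hG h hτ
  have hgC : Nat.card (M ⊓ C : Subgroup G) ∣ Nat.card C := card_dvd_of_le inf_le_right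
  have hge : 24 ≤ Nat.card (M ⊓ C : Subgroup G) := hgc ▸ h24.trans (card_le_of_le hrange)
  have h48' := hgC.trans hC48
  rcases (show Nat.card (M ⊓ C : Subgroup G) = 48 ∨ Nat.card (M ⊓ C : Subgroup G) = 24 by
    have : ∀ c ∈ Nat.divisors 48, 24 ≤ c → c = 48 ∨ c = 24 := by decide +kernel
    exact this _ (Nat.mem_divisors.mpr ⟨h48', by norm_num⟩) hge) with hc | hc
  · have heq : (M ⊓ C : Subgroup G) = C := eq_of_le_of_card_ge inf_le_right
      (by rw [hc]; exact Nat.le_of_dvd (by norm_num) hC48)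
    have hsurj : g.range = ⊤ := eq_top_of_card_eq _ (by rw [hgc, hc, card_GL23])
    exact ⟨τ, hτ, ⟨(MulEquiv.subgroupCongr heq.symm).trans
      (MulEquiv.ofBijective g ⟨hginj, MonoidHom.range_eq_top.mp hsurj⟩)⟩⟩
  exfalso
  -- `|M| = 216`
  have hM216 : Nat.card M = 216 := by
    have hker : f.ker = D.subgroupOf M := by ext x; exact hfD x
    have h1 := f.ker.card_mul_index
    rw [index_ker, hker, Nat.card_congr (subgroupOfEquivOfLe (show D ≤ M from le_normalizer)).toEquiv,
      hD9] at h1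
    have h2 : Nat.card f.range ≤ 24 := (card_le_of_le hrange).trans_eq (hgc.trans hc)
    show Nat.card (normalizer (D : Set G)) = 216
    omega
  set N := normalizer ((P : Subgroup G) : Set G) with hN
  have hτN : τ ∈ N := by
    have hfwd : ∀ p : G, p ∈ (P : Subgroup G) → τ * p * τ⁻¹ ∈ (P : Subgroup G) := by
      intro p hp
      have : f (⟨τ, hτM⟩ * ⟨p, hPM hp⟩ * ⟨τ, hτM⟩⁻¹ * ⟨p, hPM hp⟩⁻¹) = 1 := by
        simp only [map_mul, map_inv, hfτ, inv_neg, inv_one, neg_mul, one_mul, mul_neg, mul_one,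
          neg_neg, mul_inv_cancel]
      have h1 : τ * p * τ⁻¹ * p⁻¹ ∈ (P : Subgroup G) := hDP ((hfD _).mp this)
      have h2 := mul_mem h1 hp
      rwa [inv_mul_cancel_right] at h2
    refine mem_normalizer_iff.mpr fun p => ⟨hfwd p, fun hp => ?_⟩
    have := hfwd _ hp
    rwa [inv_eq_of_mul_eq_one_right hτ2, show τ * (τ * p * τ) * τ = (τ * τ) * p * (τ * τ) by group, hτ2,
      one_mul, mul_one] at this
  -- the normaliser of `P` in `M`
  have hNM : Nat.card (N ⊓ M : Subgroup G) ∣ 54 := by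
    set P' := P.subtype hPM
    have h1 := card_normalizer_mul_card_sylow P'
    rw [hM216] at h1
    have h2 : normalizer ((P' : Subgroup M) : Set M) = N.subgroupOf M := by
      rw [P.coe_subtype hPM, hN, subgroupOf_normalizer_eq hPM]
    have h3 : Nat.card (N.subgroupOf M) = Nat.card (N ⊓ M : Subgroup G) := by
      rw [← inf_subgroupOf_right]
      exact Nat.card_congr (subgroupOfEquivOfLe inf_le_right).toEquiv
    rw [h2, h3] at h1
    have hd : Nat.card (Sylow 3 M) ∣ 8 := index_sylow (p := 3) (e := 3) (m := 8) (by rw [hM216]; norm_num)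
      (by norm_num) P' ▸ P'.card_dvd_index
    have hmod : Nat.card (Sylow 3 M) % 3 = 1 := card_sylow_modEq_one 3 M
    have hne : Nat.card (Sylow 3 M) ≠ 1 := fun e => by
      -- one Sylow subgroup would make the image have one
      rw [e, mul_one] at h1
      exact hnot (inf_eq_right.mp (eq_of_le_of_card_ge inf_le_right (by rw [h1, hM216])))
    have : ∀ c ∈ Nat.divisors 8, c % 3 = 1 → c ≠ 1 → c = 4 := by decide +kernel
    rw [this _ (Nat.mem_divisors.mpr ⟨hd, by norm_num⟩) hmod hne] at h1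
    exact ⟨1, by omega⟩
  have hnp : 54 ∣ Nat.card N := by
    have h27 : 27 ∣ Nat.card N := sylow_three_card h P ▸ card_dvd_of_le le_normalizer
    have h2 : 2 ∣ Nat.card N := hτ ▸ orderOf_dvd_natCard _ hτN
    exact Nat.Coprime.mul_dvd_of_dvd_of_dvd (by norm_num : Nat.Coprime 27 2) h27 h2
  have hN4 : 4 ∣ Nat.card N := by
    have h1 := card_normalizer_mul_card_sylow P
    rw [h, ← hN] at h1
    have hd : Nat.card (Sylow 3 G) ∣ 208 :=
      index_sylow (p := 3) (e := 3) (m := 208) (by rw [h]; norm_num) (by norm_num) P ▸ P.card_dvd_index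
    have hmod : Nat.card (Sylow 3 G) % 3 = 1 := card_sylow_modEq_one 3 G
    have hne : Nat.card (Sylow 3 G) ≠ 1 := (one_lt_card_sylow hG (by rw [h]; norm_num)).ne'
    have : ∀ c ∈ Nat.divisors 208, c % 3 = 1 → c ≠ 1 → 4 ∣ 5616 / c ∨ ¬ 54 ∣ 5616 / c := by
      decide +kernel
    have h2 : 5616 / Nat.card (Sylow 3 G) = Nat.card N := by
      rw [← h1, Nat.mul_div_cancel _ Nat.card_pos]
    exact h2 ▸ (this _ (Nat.mem_divisors.mpr ⟨hd, by norm_num⟩) hmod hne).resolve_right
      (fun hn => hn (h2.symm ▸ hnp))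
  have : Fact (Nat.Prime 2) := ⟨Nat.prime_two⟩
  have hτ2c : Nat.card (zpowers (⟨τ, hτN⟩ : N)) = 2 ^ 1 := by
    rw [Nat.card_zpowers, orderOf_mk, hτ, pow_one]
  obtain ⟨S, hS⟩ := (IsPGroup.of_card hτ2c).exists_le_sylow
  have hlt : zpowers (⟨τ, hτN⟩ : N) < (S : Subgroup N) := lt_of_le_of_ne hS fun e => by
    have h1 : 2 ^ 2 ∣ Nat.card (zpowers (⟨τ, hτN⟩ : N)) := by
      rw [e]
      obtain ⟨S', hS'⟩ := Sylow.exists_subgroup_card_pow_prime (G := N) 2 (n := 2) hN4
      obtain ⟨S'', hle⟩ := (IsPGroup.of_card hS').exists_le_sylow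
      obtain ⟨g, hg⟩ := MulAction.exists_smul_eq N S'' S
      rw [← hg, Sylow.coe_subgroup_smul]
      exact hS' ▸ (card_dvd_of_le hle).trans (dvd_of_eq (Nat.card_congr
        (Subgroup.equivSMul _ _).toEquiv))
    rw [hτ2c] at h1
    norm_num at h1
  obtain ⟨g, hg, hgτ⟩ := SetLike.exists_of_lt (lt_normalizer_inf S.isPGroup' hlt)
  have hcomm : (g : G) * τ * (g : G)⁻¹ = τ := by
    have h1 := (mem_normalizer_iff.mp hg.1 _).mp (mem_zpowers (⟨τ, hτN⟩ : N))
    obtain ⟨i, hi⟩ := mem_zpowers_iff.mp h1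
    have h2 := congrArg Subtype.val hi
    simp only [SubgroupClass.coe_zpow, Subgroup.coe_mul, Subgroup.coe_inv] at h2
    rcases Int.emod_two_eq_zero_or_one i with hi2 | hi2
    · exfalso
      obtain ⟨j, rfl⟩ := Int.dvd_of_emod_eq_zero hi2
      rw [zpow_mul, show τ ^ (2 : ℤ) = 1 by rw [zpow_two, hτ2], one_zpow] at h2
      have : τ = 1 := by
        calc τ = (g : G)⁻¹ * ((g : G) * τ * (g : G)⁻¹) * g := by group
          _ = 1 := by rw [← h2]; group
      rw [this, orderOf_one] at hτ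
      omega
    · rw [← h2, show i = 2 * (i / 2) + 1 by omega, zpow_add, zpow_mul,
        show τ ^ (2 : ℤ) = 1 by rw [zpow_two, hτ2], one_zpow, one_mul, zpow_one]
  have hgM : (g : G) ∉ M := fun hgM => by
    -- two-subgroups of `N ⊓ M` have order at most two
    set U := (S : Subgroup N) ⊓ M.subgroupOf N with hU
    have hUp : IsPGroup 2 U := S.isPGroup'.to_le inf_le_left
    obtain ⟨k, hk⟩ := IsPGroup.iff_card.mp hUp
    have hUd : Nat.card U ∣ 54 := by
      refine (card_dvd_of_le (inf_le_right : U ≤ M.subgroupOf N)).trans ?_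
      rw [← inf_subgroupOf_left,
        Nat.card_congr (subgroupOfEquivOfLe (inf_le_left : N ⊓ M ≤ N)).toEquiv]
      exact hNM
    have hk1 : k ≤ 1 := by
      by_contra hlt'
      have := (pow_dvd_pow 2 (show 2 ≤ k by omega)).trans (hk ▸ hUd)
      norm_num at this
    have := eq_of_le_of_card_ge (show zpowers (⟨τ, hτN⟩ : N) ≤ U from
      zpowers_le.mpr ⟨hS (mem_zpowers _), hτM⟩) (by
        rw [hk, hτ2c]; exact Nat.pow_le_pow_right (by norm_num) hk1)
    exact hgτ (this ▸ ⟨hg.2, hgM⟩)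
  set D' := D.map (MulAut.conj (g : G)).toMonoidHom with hD'
  have hD'P : D' ≤ (P : Subgroup G) := by
    rintro _ ⟨d, hd, rfl⟩
    exact (mem_normalizer_iff.mp g.2 d).mp (hDP hd)
  have hD'9 : Nat.card D' = 9 := by rw [hD', card_map_of_injective (MulAut.conj (g : G)).injective, hD9]
  have hinv' : ∀ d ∈ D', τ * d * τ⁻¹ = d⁻¹ := by
    rintro _ ⟨d, hd, rfl⟩
    show τ * ((g : G) * d * (g : G)⁻¹) * τ⁻¹ = ((g : G) * d * (g : G)⁻¹)⁻¹
    calc τ * ((g : G) * d * (g : G)⁻¹) * τ⁻¹
        = ((g : G) * τ * (g : G)⁻¹) * ((g : G) * d * (g : G)⁻¹) * ((g : G) * τ * (g : G)⁻¹)⁻¹ := by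
          rw [hcomm]
      _ = (g : G) * (τ * d * τ⁻¹) * (g : G)⁻¹ := by group
      _ = ((g : G) * d * (g : G)⁻¹)⁻¹ := by rw [hinv d hd]; group
  -- `D'` does not centralise `D`
  have hne : ¬ D' ≤ centralizer (D : Set G) := fun hle => hgM (by
    rw [hKD] at hle
    have heq : D' = D := eq_of_le_of_card_ge hle (by rw [hD'9, hD9])
    refine mem_normalizer_iff.mpr fun d => ⟨fun hd => heq ▸ mem_map_of_mem _ hd, fun hd => ?_⟩
    obtain ⟨e, he, hee⟩ := (show (g : G) * d * (g : G)⁻¹ ∈ D' from heq.symm ▸ hd)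
    have : e = d := (MulAut.conj (g : G)).injective hee
    exact this ▸ he)
  obtain ⟨b, hb, hbD⟩ := SetLike.not_le_iff_exists.mp hne
  obtain ⟨a, ha, hab⟩ : ∃ a ∈ D, a * b ≠ b * a := by
    by_contra! hc
    exact hbD (mem_centralizer_iff.mpr fun a ha => hc a ha)
  have hPD : (P : Subgroup G) ≤ normalizer (D : Set G) := hPM
  have hPD' := le_normalizer_of_card (sylow_three_card h P) hD'9 hD'P
  set c := ⁅a, b⁆ with hc
  have hcD : c ∈ D := by
    rw [hc, commutatorElement_def, mul_assoc, mul_assoc]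
    refine mul_mem ha ?_
    rw [← mul_assoc]
    exact (mem_normalizer_iff.mp (hPD (hD'P hb)) _).mp (inv_mem ha)
  have hcD' : c ∈ D' := by
    rw [hc, commutatorElement_def]
    exact mul_mem ((mem_normalizer_iff.mp (hPD' (hDP ha)) _).mp hb) (inv_mem hb)
  have hDab : ∀ u ∈ D, ∀ v ∈ D, Commute u v := fun u hu v hv =>
    mem_centralizer_iff.mp (show v ∈ centralizer (D : Set G) from hKD.symm ▸ hv) u hu
  have hca : Commute c a := hDab c hcD a ha
  have hcb : Commute c b := by
    obtain ⟨d, hd, hdc⟩ := hcD'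
    obtain ⟨e, he, heb⟩ := hb
    rw [← hdc, ← heb]
    exact (hDab d hd e he).map _
  have hfix : τ * c * τ⁻¹ = c := by
    have h1 : τ * c * τ⁻¹ = ⁅τ * a * τ⁻¹, τ * b * τ⁻¹⁆ := by
      rw [hc, commutatorElement_def, commutatorElement_def]; group
    rw [h1, hinv a ha, hinv' b hb, hc, commutatorElement_def, commutatorElement_def, inv_inv, inv_inv]
    calc a⁻¹ * b⁻¹ * a * b = (b * a)⁻¹ * (a * b * a⁻¹ * b⁻¹) * (b * a) := by group
      _ = (b * a)⁻¹ * c * (b * a) := by rw [hc, commutatorElement_def]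
      _ = c := by rw [mul_assoc, (hcb.mul_right hca).eq, inv_mul_cancel_left]
      _ = a * b * a⁻¹ * b⁻¹ := by rw [hc, commutatorElement_def]
  have h1 := hinv c hcD
  rw [hfix] at h1
  have := hdd c hcD (by nth_rw 1 [h1]; rw [inv_mul_cancel])
  rw [hc, commutatorElement_eq_one_iff_mul_comm] at this
  exact hab this

end Cfsg.Agent.SmallOrders.Order5616
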