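-- A simple group of order 5616 is `PSL(3,3)`.
--
-- * `nonempty_mulEquiv`: two simple groups of order 5616 are isomorphic
import Cfsg.Agent.Lib.SmallOrders.Order5616.Local
import Cfsg.Agent.Lib.MathieuEleven.Basic
import Cfsg.Agent.S2916
import Mathlib.FieldTheory.Finite.GaloisField

set_option autoImplicit false

namespace Cfsg.Agent.SmallOrders.Order5616

open Subgroup Matrix

theorem map_center_eq {A B : Type*} [Group A] [Group B] (e : A ≃* B) :
    (center A).map e.toMonoidHom = center B := by
  ext b
  constructor
  · rintro ⟨a, ha, rfl⟩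
    exact mem_center_iff.mpr fun c => by
      have := congrArg e (mem_center_iff.mp ha (e.symm c))
      rwa [map_mul, map_mul, e.apply_symm_apply] at this
  · intro hb
    refine ⟨e.symm b, mem_center_iff.mpr fun c => ?_, e.apply_symm_apply b⟩
    apply e.injective
    rw [map_mul, map_mul, e.apply_symm_apply]
    exact mem_center_iff.mp hb (e c)

/-- A field isomorphism gives an isomorphism of the projective special linear groups. -/
theorem nonempty_pslCongr {n : Type*} [DecidableEq n] [Fintype n] {F K : Type*} [Field F] [Field K]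
    (e : F ≃+* K) :
    Nonempty (ProjectiveSpecialLinearGroup n F ≃* ProjectiveSpecialLinearGroup n K) := by
  let f : SpecialLinearGroup n F ≃* SpecialLinearGroup n K :=
    { toFun := SpecialLinearGroup.map e.toRingHom
      invFun := SpecialLinearGroup.map e.symm.toRingHom
      left_inv := fun A => by
        ext i j
        exact e.symm_apply_apply _
      right_inv := fun A => by
        ext i j
        exact e.apply_symm_apply _
      map_mul' := map_mul _ }
  exact ⟨QuotientGroup.congr _ _ f (map_center_eq f)⟩

variable {G : Type*} [Group G] [Finite G] [IsSimpleGroup G]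

theorem nonempty_psl (h : Nat.card G = 5616) :
    Nonempty (G ≃* ProjectiveSpecialLinearGroup (Fin 3) (ZMod 3)) := by
  have hG : ¬ IsMulCommutative G := not_isMulCommutative_of_card (by rw [h]; norm_num)
  obtain ⟨t, ht, hC⟩ := exists_centralizer_GL hG h
  have hO : Cfsg.pResidual 2 G = ⊤ := by
    have hn : (Cfsg.pResidual 2 G).Normal := by
      constructor
      intro a ha g
      have : (Cfsg.pResidual 2 G).map (MulAut.conj g).toMonoidHom ≤ Cfsg.pResidual 2 G := by
        rw [Cfsg.pResidual, MonoidHom.map_closure, closure_le]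
        rintro _ ⟨b, hb, rfl⟩
        exact subset_closure (show Nat.Coprime (orderOf ((MulAut.conj g) b)) 2 by
          rw [(MulAut.conj g).orderOf_eq]; exact hb)
      exact this (mem_map_of_mem _ ha)
    refine hn.eq_bot_or_eq_top.resolve_left fun hb => ?_
    obtain ⟨x, hx⟩ := exists_prime_orderOf_dvd_card' (G := G) 13 (hp := ⟨by norm_num⟩)
      (by rw [h]; norm_num)
    have : x ∈ Cfsg.pResidual 2 G := subset_closure (show Nat.Coprime (orderOf x) 2 by rw [hx]; norm_num)
    rw [hb, mem_bot] at this
    rw [this, orderOf_one] at hx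
    omega
  rcases Cfsg.Agent.S2916.result hO t ht hC with ⟨F, hF1, hF2, hF3, ⟨e⟩⟩ | ⟨⟨e⟩⟩
  · obtain ⟨e'⟩ := nonempty_pslCongr (n := Fin 3)
      (FiniteField.ringEquivOfCardEq (K := F) (K' := ZMod 3) (by rw [hF3, ZMod.card]))
    exact ⟨e.trans e'⟩
  · have := Nat.card_congr e.toEquiv
    rw [h, Cfsg.Agent.MathieuEleven.natCard_m11] at this
    omega

theorem nonempty_mulEquiv {H : Type*} [Group H] [Finite H] [IsSimpleGroup H]
    (h : Nat.card G = 5616) (h' : Nat.card H = 5616) : Nonempty (G ≃* H) := by
  obtain ⟨e⟩ := nonempty_psl h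
  obtain ⟨e'⟩ := nonempty_psl h'
  exact ⟨e.trans e'.symm⟩

end Cfsg.Agent.SmallOrders.Order5616
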